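import Cfsg.Agent.H7.Fi23.E8
import Cfsg.Agent.H7.Fi23E9.E
import Cfsg.Agent.H7.Fi23E10.E

set_option autoImplicit false
set_option linter.unusedVariables false
set_option maxRecDepth 100000
set_option Elab.async false


namespace CfsgH7.Fi23

open Cfsg

theorem b1 : Bd (cl (A.gen Spor.Fi23.extra) 1) 2 :=
  E1.enum.step r1 (bd_zero _) (by decide +kernel) (by norm_num)
theorem b2 : Bd (cl (A.gen Spor.Fi23.extra) 2) 6 :=
  E2.enum.step r2 b1 (by decide +kernel) (by norm_num)
theorem b3 : Bd (cl (A.gen Spor.Fi23.extra) 3) 24 :=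
  E3.enum.step r3 b2 (by decide +kernel) (by norm_num)
theorem b4 : Bd (cl (A.gen Spor.Fi23.extra) 4) 192 :=
  E4.enum.step r4 b3 (by decide +kernel) (by norm_num)
theorem b5 : Bd (cl (A.gen Spor.Fi23.extra) 5) 1920 :=
  E5.enum.step r5 b4 (by decide +kernel) (by norm_num)
theorem b6 : Bd (cl (A.gen Spor.Fi23.extra) 6) 51840 :=
  E6.enum.step r6 b5 (by decide +kernel) (by norm_num)
theorem b7 : Bd (cl (A.gen Spor.Fi23.extra) 7) 1451520 :=
  E7.enum.step r7 b6 (by decide +kernel) (by norm_num)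
theorem b8 : Bd (cl (A.gen Spor.Fi23.extra) 8) 4585351680 :=
  E8.enum.step r8 b7 (by decide +kernel) (by norm_num)
theorem b9 : Bd (cl (A.gen Spor.Fi23.extra) 9) 129123503308800 :=
  E9.enum.step r9 b8 (by decide +kernel) (by norm_num)

end CfsgH7.Fi23
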