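import Cfsg.Agent.H7.Fi23.PT

set_option autoImplicit false
set_option linter.unusedVariables false
set_option maxRecDepth 100000
set_option Elab.async false

namespace CfsgH7.Fi23

open Cfsg

theorem c1_0 : blk f1 31671 0 91 = true := by decide +kernel
theorem c1_91 : blk f1 31671 91 91 = true := by decide +kernel
theorem c1_182 : blk f1 31671 182 91 = true := by decide +kernel
theorem c1_273 : blk f1 31671 273 91 = true := by decide +kernel
theorem c1_364 : blk f1 31671 364 91 = true := by decide +kernel
theorem c1_455 : blk f1 31671 455 40 = true := by decide +kernel
theorem c2_0 : blk f2 31671 0 84 = true := by decide +kernel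

end CfsgH7.Fi23
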