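import Cfsg.Agent.H7.Fi23.PT

set_option autoImplicit false
set_option linter.unusedVariables false
set_option maxRecDepth 100000
set_option Elab.async false

namespace CfsgH7.Fi23

open Cfsg

theorem c2_84 : blk f2 31671 84 84 = true := by decide +kernel
theorem c2_168 : blk f2 31671 168 84 = true := by decide +kernel
theorem c2_252 : blk f2 31671 252 84 = true := by decide +kernel
theorem c2_336 : blk f2 31671 336 84 = true := by decide +kernel
theorem c2_420 : blk f2 31671 420 75 = true := by decide +kernel
theorem c3_0 : blk f3 31671 0 495 = true := by decide +kernel

end CfsgH7.Fi23
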