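import Cfsg.Agent.H7.Fi23.A
import Cfsg.Agent.H7.Fi23.PC0
import Cfsg.Agent.H7.Fi23.PC1

set_option autoImplicit false
set_option linter.unusedVariables false
set_option maxRecDepth 100000
set_option Elab.async false

namespace CfsgH7.Fi23

open Cfsg

theorem a1_91 : Blk f1 31671 91 := Blk.step Blk.zero c1_0 rfl
theorem a1_182 : Blk f1 31671 182 := Blk.step a1_91 c1_91 rfl
theorem a1_273 : Blk f1 31671 273 := Blk.step a1_182 c1_182 rfl
theorem a1_364 : Blk f1 31671 364 := Blk.step a1_273 c1_273 rfl
theorem a1_455 : Blk f1 31671 455 := Blk.step a1_364 c1_364 rfl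
theorem a1_495 : Blk f1 31671 495 := Blk.step a1_455 c1_455 rfl
theorem all1 : ∀ p < 31671, f1 p = true := Blk.all a1_495 (by norm_num)
theorem a2_84 : Blk f2 31671 84 := Blk.step Blk.zero c2_0 rfl
theorem a2_168 : Blk f2 31671 168 := Blk.step a2_84 c2_84 rfl
theorem a2_252 : Blk f2 31671 252 := Blk.step a2_168 c2_168 rfl
theorem a2_336 : Blk f2 31671 336 := Blk.step a2_252 c2_252 rfl
theorem a2_420 : Blk f2 31671 420 := Blk.step a2_336 c2_336 rfl
theorem a2_495 : Blk f2 31671 495 := Blk.step a2_420 c2_420 rfl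
theorem all2 : ∀ p < 31671, f2 p = true := Blk.all a2_495 (by norm_num)
theorem a3_495 : Blk f3 31671 495 := Blk.step Blk.zero c3_0 rfl
theorem all3 : ∀ p < 31671, f3 p = true := Blk.all a3_495 (by norm_num)

noncomputable def P : PTab A Spor.Fi23.extra where
  Rw := Rw
  w := 15
  mk' := 32767
  N := 31671
  iv := 0x9876543210
  lab := 0xc0000000a0000000a8000000ba000000ab800000aea00000aae80000aaba0000aaafc
  C := 10
  EL := [[0, 1, 4, 0, 2, 5, 0, 3, 7], [6, 4, 1, 0, 2, 5, 3]]
  mac := mac
  rel := rel
  hi := by decide +kernel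
  pair := all1
  word := all2
  code_lt := by decide +kernel
  lt_code := by decide +kernel
  node := by decide +kernel
  mac_ok := by decide +kernel
  rel_ok := by decide +kernel
  cox := by decide +kernel
  ext := by decide +kernel

theorem invOk : P.InvOk := by decide +kernel

theorem rk : P.W.Rk HL I := WG.Rk.mk' (fun _ _ => rfl) P.top (by decide +kernel) all3


end CfsgH7.Fi23
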